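import Cfsg.Agent.LyG2.Pres

set_option autoImplicit false
set_option maxRecDepth 100000

/-! Coset table on 25 cosets and its certificate (generated). -/

namespace CfsgLib.LyG2.S1

open CfsgLib.CosetEnum

/-- Packed column. -/
def t0 : ℕ := 0x1800017000080001400012000070001600013000050000d0000e0000a000040000b000100000c0001500002000110000f0000100009000060000300000
/-- Packed column. -/
def t1 : ℕ := 0x18000170001200008000150001100014000060000a000050000e0000f000090000b0000d00003000160001300002000100000c00001000070000400000
/-- Packed column. -/
def t2 : ℕ := 0xc00009000130001100007000170000600018000150001600004000120001000003000140000f000020000b0000e000080000d0000a000000000500001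
/-- Packed column. -/
def t3 : ℕ := 0x11000130000f000100000a000160000d000150000c00009000060000400018000070000300017000050001400012000010000e0000b000080000000002

/-- The packed table of a letter. -/
def tb (x : ℕ) : ℕ := (bif Nat.beq x 0 then t0 else (bif Nat.beq x 1 then t1 else (bif Nat.beq x 2 then t2 else t3)))

/-- Parents. -/
def parN : ℕ := 0xc000090000800008000070000700006000060000500005000040000400004000030000300003000020000200002000010000100001000000000000000
/-- Parent letters. -/
def parX : ℕ := 0x3000030000100000000030000100003000000000100000000030000200001000030000200000000030000100000000020000100000000030000200000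

/-- The enumeration. -/
def enum : Stage rwords where
  L := [4, 5, 10, 11]
  L' := [4, 5]
  L_ok := by decide +kernel
  rels := [[0, 0, 0, 0, 0],
    [1, 3, 0, 2, 1, 3, 0, 2, 1, 3, 0, 2, 1, 3, 0, 2, 1, 3, 0, 2],
    [1, 3, 1, 2, 0, 3, 0, 2],
    [3, 3, 1, 2, 0, 2, 1, 3, 0, 2],
    [2, 2, 2, 2, 2]]
  rels_ok := by decide +kernel
  subs := [0]
  subs_ok := by decide +kernel
  n := 25
  tb := tb
  parN := parN
  parX := parX

/-- Edges of the tree. -/
def B0 : ℕ := 0x441241421248948a7bbbffffc

theorem step0 : runTree 4 tb iv parN parX 5 = B0 := by decide +kernel

theorem good0 : enum.Good pl B0 := enum.good_tree pl pl_iv 5 _ step0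

/-- Deductions. -/
def D1 : ℕ := 0xff00000000ff00000000ff00000000ff00000000ff00000000ff000000090303000004010200000303030000090206000006030300000202050000160004000015020400001103010000110207000014040400000e03020000130004000012040400000d0204000005020400000a020300000f020700000403010000010202000005030600000c00040000010303000003020600000804040000000500

/-- Edges so far. -/
def B1 : ℕ := 0xfffffffffffffffffffffffff

theorem step1 : runDed 4 tb iv enum.wd 5 6 5 D1 B0 = B1 := by decide +kernel

theorem good1 : enum.Good pl B1 :=
  enum.good_ded pl pl_iv (fun _ => prodw_pl) 5 D1 5 6 _ _ rfl rfl good0 step1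

theorem full : B1 = 2 ^ (enum.n * enum.L.length) - 1 := by decide +kernel

theorem valid : allR (validEntry 25 4 tb iv) 5 0 = true := by decide +kernel

/-- The order bound. -/
theorem bound (m : ℕ) (h : Finite (letSub pl enum.L') ∧ Nat.card (letSub pl enum.L') ≤ m) :
    Finite (letSub pl enum.L) ∧ Nat.card (letSub pl enum.L) ≤ 25 * m :=
  enum.bound pl pl_iv (d := 5) (B := B1) (by decide +kernel) (by decide +kernel) (by decide +kernel) good1 valid full h.1 h.2

end CfsgLib.LyG2.S1
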