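import Cfsg.Agent.LyG2.Pres

set_option autoImplicit false
set_option maxRecDepth 100000

/-! Coset table on 5 cosets and its certificate (generated). -/

namespace CfsgLib.LyG2.S2

open CfsgLib.CosetEnum

/-- Packed column. -/
def t0 : ℕ := 0x400003000020000100000
/-- Packed column. -/
def t1 : ℕ := 0x400003000020000100000
/-- Packed column. -/
def t2 : ℕ := 0x400003000020000100000
/-- Packed column. -/
def t3 : ℕ := 0x400003000020000100000
/-- Packed column. -/
def t4 : ℕ := 0x200004000000000300001
/-- Packed column. -/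
def t5 : ℕ := 0x300001000040000000002

/-- The packed table of a letter. -/
def tb (x : ℕ) : ℕ := (bif Nat.beq x 0 then t0 else (bif Nat.beq x 1 then t1 else (bif Nat.beq x 2 then t2 else (bif Nat.beq x 3 then t3 else (bif Nat.beq x 4 then t4 else t5)))))

/-- Parents. -/
def parN : ℕ := 0x200001000000000000000
/-- Parent letters. -/
def parX : ℕ := 0x500004000050000400000

/-- The enumeration. -/
def enum : Stage rwords where
  L := [4, 5, 10, 11, 12, 13]
  L' := [4, 5, 10, 11]
  L_ok := by decide +kernel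
  rels := [[0, 0, 0, 0, 0],
    [1, 3, 0, 2, 1, 3, 0, 2, 1, 3, 0, 2, 1, 3, 0, 2, 1, 3, 0, 2],
    [1, 3, 1, 2, 0, 3, 0, 2],
    [3, 3, 1, 2, 0, 2, 1, 3, 0, 2],
    [5, 3, 1, 2, 0, 4, 1, 3, 0, 2],
    [1, 5, 0, 4, 1, 3, 0, 2, 1, 3, 0, 2],
    [3, 5, 2, 4, 1, 3, 0, 2],
    [2, 2, 2, 2, 2],
    [4, 4, 4, 4, 4]]
  rels_ok := by decide +kernel
  subs := [0, 2]
  subs_ok := by decide +kernel
  n := 5
  tb := tb
  parN := parN
  parX := parX

/-- Edges of the tree. -/
def B0 : ℕ := 0x10830c30

theorem step0 : runTree 6 tb iv parN parX 3 = B0 := by decide +kernel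

theorem good0 : enum.Good pl B0 := enum.good_tree pl pl_iv 3 _ step0

/-- Deductions. -/
def D1 : ℕ := 0xff00000000ff00000000ff00000000ff00000000ff000000030602000003050200000406020000040502000004080400000206020000020502000000060200000005020000000a000000000900

/-- Edges so far. -/
def B1 : ℕ := 0x3fffffff

theorem step1 : runDed 6 tb iv enum.wd 9 11 4 D1 B0 = B1 := by decide +kernel

theorem good1 : enum.Good pl B1 :=
  enum.good_ded pl pl_iv (fun _ => prodw_pl) 4 D1 9 11 _ _ rfl rfl good0 step1

theorem full : B1 = 2 ^ (enum.n * enum.L.length) - 1 := by decide +kernel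

theorem valid : allR (validEntry 5 6 tb iv) 3 0 = true := by decide +kernel

/-- The order bound. -/
theorem bound (m : ℕ) (h : Finite (letSub pl enum.L') ∧ Nat.card (letSub pl enum.L') ≤ m) :
    Finite (letSub pl enum.L) ∧ Nat.card (letSub pl enum.L) ≤ 5 * m :=
  enum.bound pl pl_iv (d := 3) (B := B1) (by decide +kernel) (by decide +kernel) (by decide +kernel) good1 valid full h.1 h.2

end CfsgLib.LyG2.S2
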