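import Cfsg.Agent.LyG2.Cert.S0
import Cfsg.Agent.LyG2.Cert.S1
import Cfsg.Agent.LyG2.Cert.S2
import Cfsg.Agent.LyG2.Cert.S3
import Cfsg.Agent.LyG2.Cert.S4
import Cfsg.Agent.LyG2.Cert.S5
import Cfsg.Agent.LyG2.Cert.S6

set_option autoImplicit false
set_option maxRecDepth 100000

/-! The order bound for the presented group. -/

namespace CfsgLib.LyG2

theorem P_finite_and_card_le : Finite P ∧ Nat.card P ≤ 5859000000 := by
  have h0 := S0.bound 1 (by
    rw [show S0.enum.L' = [] from rfl, letSub_nil]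
    exact ⟨inferInstance, by rw [Subgroup.card_bot]⟩)
  have h1 := S1.bound _ h0
  have h2 := S2.bound _ h1
  have h3 := S3.bound _ h2
  have h4 := S4.bound _ h3
  have h5 := S5.bound _ h4
  have h6 := S6.bound _ h5
  have htop : letSub pl S6.enum.L = ⊤ := by
    rw [eq_top_iff, ← PresentedGroup.closure_range_of]
    refine Subgroup.closure_mono ?_
    rintro _ ⟨a, rfl⟩
    refine ⟨2 * a.val, ?_, ?_⟩
    · fin_cases a <;> decide +kernel
    · fin_cases a <;> rfl
  rw [htop] at h6
  haveI := h6.1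
  refine ⟨Finite.of_equiv _ Subgroup.topEquiv.toEquiv, ?_⟩
  rw [← Nat.card_congr (Subgroup.topEquiv (G := P)).toEquiv]
  exact h6.2.trans (by decide +kernel)

end CfsgLib.LyG2
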